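import Cfsg.Agent.H64.CI.E
import Cfsg.Agent.H30.BendR
import Cfsg.Agent.H30.BendLin
import Cfsg.Agent.H37.NSp
import Cfsg.Agent.H87.BCountFin

/-! The part of Bender's theorem used for coprime automorphisms. -/

set_option autoImplicit false

universe u

namespace Cfsg.Agent.H64.CI

open Cfsg.Agent.H30.Bend in
theorem bt : BT.{u} := by
  intro G Ω _ _ _ htr hinv hnt hex h2 hfaith a b c hb hc
  have hΩ : BH G Ω := ⟨htr, hinv, hnt, hex⟩
  have h2' : Comm2 G := h2
  have hT : TC G Ω := tc_all Cfsg.Agent.H37.NSp.nspec linSpec Cfsg.Agent.H87.BC.betaStatement oddSolv.{u}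
    cmStatement hΩ h2' hfaith
  obtain ⟨s, hs, hsb⟩ := stmt_all oddSolv.{u} (Nat.card G) G rfl Ω hΩ hT h2' a b c hb hc
  exact ⟨s, hs.1, hs.2, hsb⟩

end Cfsg.Agent.H64.CI
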